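import Mathlib
import Cfsg.Agent.H67.Realize.MaxRealize
/-!
Saturated systems on the quaternion group of order eight.
-/
set_option autoImplicit false

namespace H67.Rz

open Cfsg Cfsg.FusionSystem

theorem q8_involution : ∀ v w : QuaternionGroup 2, v * v = 1 → w * w = 1 →
    v = 1 ∨ w = 1 ∨ v = w := by decide

theorem q8_center_count :
    (Finset.univ.filter fun v : QuaternionGroup 2 => ∀ w, w * v = v * w).card = 2 := by decide

theorem card_inn_q8 {X : Type*} [Group X] (e : X ≃* QuaternionGroup 2) :
    Nat.card (Cfsg.Inn X) = 4 := by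
  have : Finite X := Finite.of_injective e e.injective
  have h1 := (Subgroup.center X).card_mul_index
  have h2 : Nat.card (Subgroup.center (QuaternionGroup 2)) = 2 := by
    refine Eq.trans ?_ q8_center_count
    rw [← Nat.card_eq_finsetCard]
    exact Nat.card_congr (Equiv.subtypeEquivRight fun v => by
      simp [Subgroup.mem_center_iff])
  rw [Nat.card_congr (Subgroup.centerCongr e).toEquiv, h2, Nat.card_congr e.toEquiv,
    Nat.card_eq_fintype_card, QuaternionGroup.card] at h1
  rw [card_inn]
  omega

theorem isPGroup_mulAut_cyclic {X : Type*} [Group X] [Finite X] [IsCyclic X]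
    (hX : IsPGroup 2 X) : IsPGroup 2 (MulAut X) := by
  have : Fact (Nat.Prime 2) := ⟨Nat.prime_two⟩
  obtain ⟨k, hk⟩ := IsPGroup.iff_card.mp hX
  refine IsPGroup.of_card (n := k - 1) ?_
  rw [IsCyclic.card_mulAut, hk]
  rcases k with _ | k
  · simp
  · rw [Nat.totient_prime_pow Nat.prime_two k.succ_pos]
    simp

variable {Ω : Type*} [Group Ω] {S : Subgroup Ω}

theorem q8_isPGroup (e : S ≃* QuaternionGroup 2) : IsPGroup 2 S :=
  IsPGroup.of_card (n := 3) (by
    rw [Nat.card_congr e.toEquiv, Nat.card_eq_fintype_card, QuaternionGroup.card]; rfl)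

theorem q8_proper (e : S ≃* QuaternionGroup 2) {P : Subgroup Ω} (hP : P < S) :
    IsPGroup 2 (MulAut P) := by
  have : Fact (Nat.Prime 2) := ⟨Nat.prime_two⟩
  have : Finite S := Finite.of_injective e e.injective
  have := H85.finite_of_le hP.le
  have hp : IsPGroup 2 P := (q8_isPGroup e).to_le hP.le
  have huniq : ∀ v w : P, v * v = 1 → w * w = 1 → v = 1 ∨ w = 1 ∨ v = w := by
    intro v w hv hw
    let f : P →* QuaternionGroup 2 := e.toMonoidHom.comp (Subgroup.inclusion hP.le)
    have hf : Function.Injective f := e.injective.comp (Subgroup.inclusion_injective hP.le)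
    rcases q8_involution (f v) (f w) (by rw [← map_mul, hv, map_one])
      (by rw [← map_mul, hw, map_one]) with h | h | h
    · exact Or.inl (hf (h.trans (map_one f).symm))
    · exact Or.inr (Or.inl (hf (h.trans (map_one f).symm)))
    · exact Or.inr (Or.inr (hf h))
  have hcard : Nat.card S = 8 := by
    rw [Nat.card_congr e.toEquiv, Nat.card_eq_fintype_card, QuaternionGroup.card]
  obtain ⟨k, hk⟩ := IsPGroup.iff_card.mp hp
  have hk2 : k ≤ 2 := by
    have hlt : Nat.card P < Nat.card S :=
      (Subgroup.card_le_of_le hP.le).lt_of_ne fun h =>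
        hP.ne (Subgroup.eq_of_le_of_card_ge hP.le h.ge)
    rw [hk, hcard, show 8 = 2 ^ 3 from rfl] at hlt
    have := (Nat.pow_lt_pow_iff_right (by norm_num)).mp hlt
    omega
  have : IsCyclic P := by
    by_cases hex : ∃ v : P, orderOf v = Nat.card P
    · obtain ⟨v, hv⟩ := hex
      exact isCyclic_of_orderOf_eq_card v hv
    exfalso
    apply hex
    interval_cases k
    · exact ⟨1, by rw [orderOf_one, hk, pow_zero]⟩
    · haveI : Nontrivial P := Finite.one_lt_card_iff_nontrivial.mp (by rw [hk]; norm_num)
      obtain ⟨v, hv⟩ := exists_ne (1 : P)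
      have hv2 : v ^ 2 = 1 := by
        have := pow_card_eq_one' (x := v)
        rwa [hk, pow_one] at this
      exact ⟨v, by rw [hk, pow_one]; exact orderOf_eq_prime hv2 hv⟩
    · by_contra hno
      push Not at hno
      have hall : ∀ v : P, v * v = 1 := by
        intro v
        obtain ⟨i, hi, hi'⟩ := (Nat.dvd_prime_pow Nat.prime_two).mp (hk ▸ orderOf_dvd_natCard v)
        have hi2 : i ≠ 2 := fun e => hno v (by rw [hi', e, hk])
        rw [← sq, ← orderOf_dvd_iff_pow_eq_one, hi', ← pow_one 2, ← pow_mul, one_mul]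
        exact Nat.pow_dvd_pow 2 (by omega)
      classical
      haveI := Fintype.ofFinite P
      obtain ⟨a, b, c, -, -, -, hab, hac, hbc⟩ :=
        Finset.two_lt_card_iff.mp (show 2 < (Finset.univ : Finset P).card by
          rw [Finset.card_univ, ← Nat.card_eq_fintype_card, hk]; norm_num)
      have h1 := huniq a b (hall a) (hall b)
      have h2 := huniq a c (hall a) (hall c)
      have h3 := huniq b c (hall b) (hall c)
      rcases h1 with e1 | e1 | e1 <;> rcases h2 with e2 | e2 | e2 <;> rcases h3 with e3 | e3 | e3 <;>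
        subst_vars <;> contradiction
  exact isPGroup_mulAut_cyclic hp

theorem q8_essential (e : S ≃* QuaternionGroup 2) {F : FusionSystem S} {P : Subgroup Ω}
    (hP : F.IsEssential 2 P) : P = S := by
  have : Fact (Nat.Prime 2) := ⟨Nat.prime_two⟩
  have : Finite S := Finite.of_injective e e.injective
  by_contra hne
  exact H85.not_isEssential_of_isPGroup ((q8_proper e (lt_of_le_of_ne hP.1.1 hne)).to_subgroup _) hP

theorem q8_autInduced (e : S ≃* QuaternionGroup 2) :
    Nat.card (autInducedBy S S) = 4 := by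
  rw [← card_inn_q8 e]
  congr 2
  refine le_antisymm (fun α hα => ?_) (H85.inn_le_autInducedBy le_rfl)
  obtain ⟨g, hg, h⟩ := H85.mem_autInducedBy.mp hα
  exact ⟨⟨g, hg⟩, MulEquiv.ext fun v => Subtype.ext (h v).symm⟩

theorem q8_card_autGroup (e : S ≃* QuaternionGroup 2) {F : FusionSystem S}
    (hF : F.IsSaturated 2) :
    (F.autGroup S = autInducedBy S S ∧ ¬ Fused F S) ∨
      (Nat.card (F.autGroup S) = 12 ∧ Fused F S) := by
  classical
  have : Fact (Nat.Prime 2) := ⟨Nat.prime_two⟩
  have : Finite S := Finite.of_injective e e.injective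
  have : Finite (MulAut S) := Finite.of_injective _ DFunLike.coe_injective
  obtain ⟨-, R, hR⟩ :=
    H85.fullyAutomized_of_fullyNormalized (q8_isPGroup e) hF (H85.fullyNormalized_top F)
  have hle := H85.autInducedBy_le_autGroup F (le_refl S)
  have hRc : Nat.card (R : Subgroup (F.autGroup S)) = 4 := by
    rw [hR, Nat.card_congr (Subgroup.subgroupOfEquivOfLe hle).toEquiv, q8_autInduced e]
  have h24 : Nat.card (F.autGroup S) ∣ 24 := by
    rw [← H58.card_mulAut_q8, ← Nat.card_congr (MulAut.congr e).toEquiv]
    exact Subgroup.card_subgroup_dvd_card _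
  have hm := (R : Subgroup (F.autGroup S)).card_mul_index
  rw [hRc] at hm
  have hodd : Odd (R : Subgroup (F.autGroup S)).index := odd_index_sylow R
  have h6 : (R : Subgroup (F.autGroup S)).index ∣ 6 := by
    rw [← hm] at h24
    exact Nat.dvd_of_mul_dvd_mul_left (by norm_num : 0 < 4) h24
  have hcases : (R : Subgroup (F.autGroup S)).index = 1 ∨ (R : Subgroup (F.autGroup S)).index = 3 := by
    have := Nat.le_of_dvd (by norm_num) h6
    obtain ⟨i, hi⟩ := hodd
    interval_cases (R : Subgroup (F.autGroup S)).index <;> omega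
  rcases hcases with h | h
  · refine Or.inl ⟨(Subgroup.eq_of_le_of_card_ge hle ?_).symm, ?_⟩
    · rw [q8_autInduced e, ← hm, h]
    · rintro ⟨α, hα, h3⟩
      have h1 := Subgroup.orderOf_dvd_natCard _ hα
      rw [← hm, h, h3] at h1
      omega
  · refine Or.inr ⟨by rw [← hm, h], ?_⟩
    obtain ⟨α, hα⟩ := exists_prime_orderOf_dvd_card' (G := F.autGroup S) 3
      ⟨4, by rw [← hm, h]⟩
    exact ⟨α, α.2, by rw [Subgroup.orderOf_coe]; exact hα⟩

theorem q8_le (e : S ≃* QuaternionGroup 2) {F F' : FusionSystem S} (hF : F.IsSaturated 2)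
    (hF' : F'.IsSaturated 2) (h : Fused F S → Fused F' S) : F ≤ F' := by
  classical
  have : Fact (Nat.Prime 2) := ⟨Nat.prime_two⟩
  have : Finite S := Finite.of_injective e e.injective
  have : Finite (MulAut S) := Finite.of_injective _ DFunLike.coe_injective
  refine H85.le_of_essential (q8_isPGroup e) hF F' ?_
  intro P hP
  obtain rfl : P = S := hP.elim id (q8_essential e)
  rcases q8_card_autGroup e hF with ⟨hA, -⟩ | ⟨hA, hf⟩
  · rw [hA]; exact H85.autInducedBy_le_autGroup F' le_rfl
  rcases q8_card_autGroup e hF' with ⟨-, hnf⟩ | ⟨hA', -⟩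
  · exact absurd (h hf) hnf
  obtain ⟨β, hβ, h3⟩ := h hf
  have hidx : (F.autGroup P).index = 2 := by
    have h1 := (F.autGroup P).card_mul_index
    rw [hA, Nat.card_congr (MulAut.congr e).toEquiv, H58.card_mulAut_q8] at h1
    omega
  have hβF : β ∈ F.autGroup P := by
    have h2 := Subgroup.sq_mem_of_index_two hidx (β ^ 2)
    rwa [← pow_mul, show (2 * 2 : ℕ) = 3 + 1 from rfl, pow_succ, ← h3, pow_orderOf_eq_one,
      one_mul] at h2
  set H := F.autGroup P ⊓ F'.autGroup P with hH
  have d1 : 4 ∣ Nat.card H := q8_autInduced e ▸ Subgroup.card_dvd_of_le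
    (le_inf (H85.autInducedBy_le_autGroup F le_rfl) (H85.autInducedBy_le_autGroup F' le_rfl))
  have d2 : 3 ∣ Nat.card H := h3 ▸ Subgroup.orderOf_dvd_natCard _ (show β ∈ H from ⟨hβF, hβ⟩)
  have d3 := Nat.Coprime.mul_dvd_of_dvd_of_dvd (by norm_num : Nat.Coprime 4 3) d1 d2
  have he : H = F.autGroup P := Subgroup.eq_of_le_of_card_ge inf_le_left
    (by rw [hA]; exact Nat.le_of_dvd Nat.card_pos d3)
  exact he ▸ inf_le_right

theorem q8_realizable (e : S ≃* QuaternionGroup 2) {F : FusionSystem S} (hF : F.IsSaturated 2) :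
    F.IsRealizable 2 := by
  have : Fact (Nat.Prime 2) := ⟨Nat.prime_two⟩
  have : Finite S := Finite.of_injective e e.injective
  by_cases hf : Fused F S
  · set G := Matrix.SpecialLinearGroup (Fin 2) (ZMod 3)
    let X : G := ⟨!![0, 1; -1, 0], by decide⟩
    let Y : G := ⟨!![1, 1; 1, -1], by decide⟩
    let g : G := ⟨!![1, 1; 0, 1], by decide⟩
    have hX : orderOf X = 4 := by
      rw [orderOf_eq_iff (by norm_num)]
      refine ⟨by decide, fun m hm hm0 => ?_⟩
      interval_cases m <;> decide
    have hrel : GenRel (2 ^ 2) (-1) 2 X Y := by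
      refine GenRel.mk' (by norm_num) hX ?_ ?_ (not_two_pow_dvd le_rfl)
      · rw [_root_.zpow_neg_one]; decide
      · rw [zpow_ofNat]; decide
    obtain ⟨T, hT⟩ := hrel.exists_sylow 2 3 rfl (by decide) (by
      rw [card_SL_two, Nat.card_zmod]; norm_num)
    have hS : GenRel (2 ^ 2) (-1) 2 (e.symm (QuaternionGroup.a 1))
        (e.symm (QuaternionGroup.xa 0)) := by
      refine GenRel.map ?_ e.symm.toMonoidHom e.symm.injective
      refine GenRel.mk' (by norm_num) QuaternionGroup.orderOf_a_one ?_ ?_ (not_two_pow_dvd le_rfl)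
      · rw [_root_.zpow_neg_one]; decide
      · rw [zpow_ofNat]; decide
    set R := Subgroup.closure ({X, Y} : Set G) with hR
    have hXR : X ∈ R := Subgroup.subset_closure (Set.mem_insert _ _)
    have hYR : Y ∈ R := Subgroup.subset_closure (Set.mem_insert_of_mem _ rfl)
    obtain ⟨θ, -, -⟩ := hS.exists_iso (hrel.restrict R hXR hYR)
      (by rw [Nat.card_congr e.toEquiv, Nat.card_eq_fintype_card, QuaternionGroup.card]; rfl)
      (by rw [hR, hrel.card_closure])
    have hg : g ∈ Subgroup.normalizer (R : Set G) := by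
      refine H85.mem_normalizer_of_conj fun v hv => ?_
      revert v
      show R ≤ R.comap (MulAut.conj g).toMonoidHom
      rw [hR, Subgroup.closure_le]
      rintro v (rfl | rfl)
      · show g * X * g⁻¹ ∈ R
        rw [show g * X * g⁻¹ = X ^ 2 * Y by decide]
        exact mul_mem (pow_mem hXR 2) hYR
      · show g * Y * g⁻¹ ∈ R
        rw [show g * Y * g⁻¹ = X ^ 3 * Y by decide]
        exact mul_mem (pow_mem hXR 3) hYR
    set j : S →* G := R.subtype.comp θ.toMonoidHom with hj
    have hinj : Function.Injective j := R.subtype_injective.comp θ.injective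
    have hrange : (T : Subgroup G) = j.range := by
      rw [hT, hj, MonoidHom.range_comp, MonoidHom.range_eq_top.mpr θ.surjective,
        ← MonoidHom.range_eq_map, Subgroup.range_subtype]
    have hr := H89.realized_realizedSystem j hinj
    have hsat := H85.isSaturated_of_realized hr T hrange
    have hf' : Fused (H89.realizedSystem j hinj) S := by
      set γ : MulAut R := R.normalizerMonoidHom ⟨g, hg⟩ with hγ
      have hγ3 : orderOf γ = 3 := by
        refine orderOf_eq_prime ?_ ?_
        · rw [hγ, ← map_pow, show (⟨g, hg⟩ : Subgroup.normalizer (R : Set G)) ^ 3 = 1 from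
            Subtype.ext (show g ^ 3 = 1 by decide), map_one]
        · intro h1
          have h2 : g * X * g⁻¹ = X :=
            congrArg (fun f : MulAut R => ((f ⟨X, hXR⟩ : R) : G)) h1
          exact absurd h2 (show ¬ (g * X * g⁻¹ = X) from fun h => by
            have h00 := congrArg (fun M : G => (M : Matrix (Fin 2) (Fin 2) (ZMod 3)) 0 0) h
            revert h00
            decide)
      refine ⟨MulAut.congr θ.symm γ, (mem_realized_autGroup hr le_rfl).2 ⟨g, fun v => ?_⟩,
        by rw [MulEquiv.orderOf_eq, hγ3]⟩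
      show ((θ (θ.symm (γ (θ v))) : R) : G) = _
      rw [θ.apply_symm_apply]
      rfl
    rw [H85.fusionSystem_le_antisymm (q8_le e hF hsat fun _ => hf') (q8_le e hsat hF fun _ => hf)]
    exact isRealizable_of_realized hr T hrange
  · let j : S →* S := MonoidHom.id S
    have hj : Function.Injective j := fun a b e => e
    obtain ⟨T, hT⟩ : ∃ T : Sylow 2 S, (T : Subgroup S) = j.range :=
      ⟨((q8_isPGroup e).to_subgroup j.range).toSylow (by
        rw [MonoidHom.range_eq_top.mpr fun v => ⟨v, rfl⟩, Subgroup.index_top]; norm_num), rfl⟩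
    have hr := H89.realized_realizedSystem j hj
    have hsat := H85.isSaturated_of_realized hr T hT
    rw [H85.fusionSystem_le_antisymm (q8_le e hF hsat fun h => absurd h hf)
      (q8_le e hsat hF fun h => absurd h (not_fused_of_pgroup hr (q8_isPGroup e) le_rfl))]
    exact ⟨↥S, inferInstance, inferInstance, j, hr, T, hT⟩

end H67.Rz
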